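import Mathlib
import Cfsg.Prelude.Def_GeometricClasses
import Cfsg.Prelude.Def_Classical
import Cfsg.Agent.Lib.helper7.TP.Defs

/-!
# Project UTP (S5670): `GU_a(q) ⊗ GU_b(q) ⊓ SU` is maximal in `SU_ab(q)`, `2 ≤ a < b`, not `a = q = 2`

Standard model: `V = F^(Fin a × Fin b) = A ⊗ B`, `σ` a field automorphism of order two, standard hermitian forms
`hf σ x y = Σ x_i σ(y_i)` on `A = F^a`, `B = F^b` and `V` (then `hf (u ⊗ w) (u' ⊗ w') = hf u u' * hf w w'`).
`ten`, `ctr`, `Bline`, `K0`, `ELm`, `EL` are those of project TP (`helper7.TP.Defs`); the covector of `w` is `cj σ w`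
(`ctr (cj σ w) (u ⊗ y) = hf y w • u`).  Root elements: `ELm ζ w (cj σ w)` for `w` isotropic (`cj σ w ⬝ᵥ w = 0`); it is an
isometry iff `ζ` is skew-hermitian; `ζ = c • 1`, `σ c = - c`: the `B`-transvection `1 ⊗ (y ↦ y + c hf y w • w)`.
See `PLAN.md` in this folder.
-/

set_option autoImplicit false
set_option linter.unusedSectionVars false
set_option linter.unusedVariables false

namespace Cfsg.Agent.Lib.helper6.UTP

open Matrix
open scoped Kronecker
open Cfsg.Agent.Lib.helper7.TP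

variable {F : Type*} [Field F]

/-- `σ` is a field automorphism of order two. -/
structure Inv2 (σ : F ≃+* F) : Prop where
  invol : ∀ x, σ (σ x) = x
  moved : ∃ x, σ x ≠ x

/-- the coordinatewise conjugate of a vector. -/
def cj (σ : F ≃+* F) {ι : Type*} (w : ι → F) : ι → F := fun i => σ (w i)

/-- the standard hermitian form `Σ x_i σ(y_i)` (linear in the first argument). -/
def hf (σ : F ≃+* F) {ι : Type*} [Fintype ι] (x y : ι → F) : F := x ⬝ᵥ cj σ y

section api
variable (σ : F ≃+* F) {ι : Type*} [Fintype ι]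

@[simp] theorem cj_apply (w : ι → F) (i : ι) : cj σ w i = σ (w i) := rfl

theorem cj_add (w w' : ι → F) : cj σ (w + w') = cj σ w + cj σ w' := by
  funext i; simp [cj]

theorem cj_sub (w w' : ι → F) : cj σ (w - w') = cj σ w - cj σ w' := by
  funext i; simp [cj]

theorem cj_neg (w : ι → F) : cj σ (-w) = -cj σ w := by
  funext i; simp [cj]

theorem cj_smul (c : F) (w : ι → F) : cj σ (c • w) = σ c • cj σ w := by
  funext i; simp [cj]

@[simp] theorem cj_zero : cj σ (0 : ι → F) = 0 := by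
  funext i; simp [cj]

theorem cj_cj (hσ : Inv2 σ) (w : ι → F) : cj σ (cj σ w) = w := by
  funext i; simp [cj, hσ.invol]

theorem cj_eq_zero {w : ι → F} : cj σ w = 0 ↔ w = 0 := by
  constructor
  · intro h
    funext i
    have := congrFun h i
    simpa [cj] using this
  · rintro rfl
    exact cj_zero σ

theorem hf_def (x y : ι → F) : hf σ x y = x ⬝ᵥ cj σ y := rfl

theorem hf_add_left (x x' y : ι → F) : hf σ (x + x') y = hf σ x y + hf σ x' y := by
  simp [hf, add_dotProduct]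

theorem hf_sub_left (x x' y : ι → F) : hf σ (x - x') y = hf σ x y - hf σ x' y := by
  simp [hf, sub_dotProduct]

theorem hf_smul_left (c : F) (x y : ι → F) : hf σ (c • x) y = c * hf σ x y := by
  simp [hf, smul_dotProduct]

theorem hf_add_right (x y y' : ι → F) : hf σ x (y + y') = hf σ x y + hf σ x y' := by
  simp [hf, cj_add, dotProduct_add]

theorem hf_sub_right (x y y' : ι → F) : hf σ x (y - y') = hf σ x y - hf σ x y' := by
  simp [hf, cj_sub, dotProduct_sub]

theorem hf_smul_right (c : F) (x y : ι → F) : hf σ x (c • y) = σ c * hf σ x y := by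
  simp [hf, cj_smul, dotProduct_smul]

@[simp] theorem hf_zero_left (y : ι → F) : hf σ 0 y = 0 := by simp [hf]

@[simp] theorem hf_zero_right (x : ι → F) : hf σ x 0 = 0 := by simp [hf]

theorem hf_neg_left (x y : ι → F) : hf σ (-x) y = -hf σ x y := by simp [hf]

theorem hf_neg_right (x y : ι → F) : hf σ x (-y) = -hf σ x y := by simp [hf, cj_neg]

/-- `hf x y = σ (hf y x)`. -/
theorem hf_herm (hσ : Inv2 σ) (x y : ι → F) : hf σ x y = σ (hf σ y x) := by
  simp only [hf, dotProduct, cj, map_sum, map_mul, hσ.invol]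
  exact Finset.sum_congr rfl (fun i _ => mul_comm _ _)

/-- the isotropy condition in the two forms used: `cj σ w ⬝ᵥ w = 0 ↔ hf σ w w = 0`. -/
theorem iso_iff (w : ι → F) : cj σ w ⬝ᵥ w = 0 ↔ hf σ w w = 0 := by
  rw [hf, dotProduct_comm]

/-- the form is non-degenerate: `hf x y = 0` for all `x` forces `y = 0`. -/
theorem hf_nondeg [DecidableEq ι] (y : ι → F) (h : ∀ x, hf σ x y = 0) : y = 0 := by
  funext i
  have := h (Pi.single i 1)
  simp only [hf, single_dotProduct, one_mul, cj] at this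
  simpa using this

theorem hf_nondeg' [DecidableEq ι] (hσ : Inv2 σ) (x : ι → F) (h : ∀ y, hf σ x y = 0) : x = 0 := by
  apply hf_nondeg σ
  intro y
  rw [hf_herm σ hσ, h, map_zero]

end api

section tensor
variable (σ : F ≃+* F) {a b : ℕ}

/-- `hf (u ⊗ w) (u' ⊗ w') = hf u u' * hf w w'`. -/
theorem hf_ten (u u' : Fin a → F) (w w' : Fin b → F) :
    hf σ (ten u w) (ten u' w') = hf σ u u' * hf σ w w' := by
  simp only [hf, dotProduct, ten, cj, Fintype.sum_prod_type, map_mul]
  rw [Finset.sum_mul_sum]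
  apply Finset.sum_congr rfl
  intro i _
  apply Finset.sum_congr rfl
  intro j _
  ring

/-- `hf v (u ⊗ w) = hf (ctr (cj σ w) v) u`. -/
theorem hf_ten_right (v : Fin a × Fin b → F) (u : Fin a → F) (w : Fin b → F) :
    hf σ v (ten u w) = hf σ (ctr (cj σ w) v) u := by
  simp only [hf, dotProduct, ten, cj, ctr, Fintype.sum_prod_type, map_mul]
  apply Finset.sum_congr rfl
  intro i _
  rw [Finset.sum_mul]
  apply Finset.sum_congr rfl
  intro j _
  ring

/-- `hf (u ⊗ w) v = hf u (ctr (cj σ w) v)`. -/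
theorem hf_ten_left (hσ : Inv2 σ) (v : Fin a × Fin b → F) (u : Fin a → F) (w : Fin b → F) :
    hf σ (ten u w) v = hf σ u (ctr (cj σ w) v) := by
  rw [hf_herm σ hσ, hf_ten_right, ← hf_herm σ hσ]

/-- `ctr (cj σ w) (u ⊗ y) = hf y w • u`. -/
theorem ctr_cj_ten (u : Fin a → F) (w y : Fin b → F) : ctr (cj σ w) (ten u y) = hf σ y w • u := by
  rw [ctr_ten, hf, dotProduct_comm]

end tensor

/-! ## The groups -/

/-- the isometry group of the standard hermitian form on `F^ι`. -/
def GUm (σ : F ≃+* F) (ι : Type) [Fintype ι] [DecidableEq ι] : Subgroup (Matrix.GeneralLinearGroup ι F) :=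
  Cfsg.preserving (Units.coeHom (Matrix ι ι F)) (hf σ)

theorem mem_GUm (σ : F ≃+* F) {ι : Type} [Fintype ι] [DecidableEq ι] (g : Matrix.GeneralLinearGroup ι F) :
    g ∈ GUm σ ι ↔ ∀ x y : ι → F, hf σ ((g : Matrix ι ι F) *ᵥ x) ((g : Matrix ι ι F) *ᵥ y) = hf σ x y :=
  Iff.rfl

/-- isometries of determinant one. -/
def SUm (σ : F ≃+* F) (ι : Type) [Fintype ι] [DecidableEq ι] : Subgroup (Matrix.GeneralLinearGroup ι F) :=
  GUm σ ι ⊓ Cfsg.Geo.specialLinear ι F

/-- the tensor product subgroup inside `SU`: `K0 ⊓ SU`. -/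
def T0u (σ : F ≃+* F) (a b : ℕ) : Subgroup (Matrix.GeneralLinearGroup (Fin a × Fin b) F) :=
  K0 a b F ⊓ SUm σ (Fin a × Fin b)

variable {a b : ℕ}

/-- `ζ ∈ Λ` witnessed at SOME non-zero isotropic `w`. -/
def LamEu (σ : F ≃+* F) (M : Subgroup (Matrix.GeneralLinearGroup (Fin a × Fin b) F))
    (ζ : Matrix (Fin a) (Fin a) F) : Prop :=
  ∃ (w : Fin b → F) (g : Matrix.GeneralLinearGroup (Fin a × Fin b) F),
    w ≠ 0 ∧ cj σ w ⬝ᵥ w = 0 ∧ (g : Matrix (Fin a × Fin b) (Fin a × Fin b) F) = ELm ζ w (cj σ w) ∧ g ∈ M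

/-- `ζ ∈ Λ` at ALL isotropic `w`. -/
def LamAu (σ : F ≃+* F) (M : Subgroup (Matrix.GeneralLinearGroup (Fin a × Fin b) F))
    (ζ : Matrix (Fin a) (Fin a) F) : Prop :=
  ∀ (w : Fin b → F) (g : Matrix.GeneralLinearGroup (Fin a × Fin b) F),
    cj σ w ⬝ᵥ w = 0 → (g : Matrix (Fin a × Fin b) (Fin a × Fin b) F) = ELm ζ w (cj σ w) → g ∈ M

/-- "`Λ = F`": every `ζ ∈ Λ` is a scalar matrix. -/
def NTu (σ : F ≃+* F) (M : Subgroup (Matrix.GeneralLinearGroup (Fin a × Fin b) F)) : Prop :=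
  ∀ ζ : Matrix (Fin a) (Fin a) F, LamEu σ M ζ → ∃ c : F, ζ = c • (1 : Matrix (Fin a) (Fin a) F)

theorem LamAu_iff (σ : F ≃+* F) (M : Subgroup (Matrix.GeneralLinearGroup (Fin a × Fin b) F))
    (ζ : Matrix (Fin a) (Fin a) F) :
    LamAu σ M ζ ↔ ∀ (w : Fin b → F) (h : cj σ w ⬝ᵥ w = 0), EL ζ w (cj σ w) h ∈ M := by
  constructor
  · intro H w h
    exact H w _ h rfl
  · intro H w g h hg
    have : g = EL ζ w (cj σ w) h := Units.ext hg
    rw [this]
    exact H w h

/-- the set of isotropic vectors `y` of `V` whose full root group `{x ↦ x + hf x (c • y) • y : σ c = - c}` lies in `M`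
(`Helper28.UMax.XS` for the index type `Fin a × Fin b`). -/
def XSu (σ : F ≃+* F) {ι : Type} [Fintype ι] [DecidableEq ι] (M : Subgroup (Matrix.GeneralLinearGroup ι F)) :
    Set (ι → F) :=
  {y | hf σ y y = 0 ∧ ∀ c : F, σ c = -c → ∀ t : Matrix.GeneralLinearGroup ι F,
    (∀ x, (t : Matrix ι ι F) *ᵥ x = x + hf σ x (c • y) • y) → t ∈ M}

/-- every isotropic vector is in `XSu`: `M` contains all unitary transvections. -/
def AllTv (σ : F ≃+* F) {ι : Type} [Fintype ι] [DecidableEq ι] (M : Subgroup (Matrix.GeneralLinearGroup ι F)) :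
    Prop :=
  ∀ y : ι → F, hf σ y y = 0 → y ∈ XSu σ M

/-! ## Swapping the two factors -/

/-- `GL (Fin a × Fin b) ≃* GL (Fin b × Fin a)`. -/
def swp (a b : ℕ) (F : Type*) [Field F] :
    Matrix.GeneralLinearGroup (Fin a × Fin b) F ≃* Matrix.GeneralLinearGroup (Fin b × Fin a) F :=
  Cfsg.Geo.glReindex (Equiv.prodComm (Fin a) (Fin b))

/-- the swap of a vector. -/
def swv (v : Fin a × Fin b → F) : Fin b × Fin a → F := fun p => v p.swap

theorem swv_ten (u : Fin a → F) (w : Fin b → F) : swv (ten u w) = ten w u := by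
  funext p
  simp [swv, ten, mul_comm]

theorem swp_mulVec (g : Matrix.GeneralLinearGroup (Fin a × Fin b) F) (v : Fin a × Fin b → F) :
    ((swp a b F g : Matrix.GeneralLinearGroup (Fin b × Fin a) F) : Matrix (Fin b × Fin a) (Fin b × Fin a) F) *ᵥ
      swv v = swv ((g : Matrix (Fin a × Fin b) (Fin a × Fin b) F) *ᵥ v) := by
  funext p
  simp only [swp, Cfsg.Geo.glReindex, swv, Matrix.mulVec, dotProduct]
  change ∑ x, (Matrix.reindex (Equiv.prodComm (Fin a) (Fin b)) (Equiv.prodComm (Fin a) (Fin b))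
      (g : Matrix (Fin a × Fin b) (Fin a × Fin b) F)) p x * v x.swap = _
  rw [← Equiv.sum_comp (Equiv.prodComm (Fin a) (Fin b))]
  apply Finset.sum_congr rfl
  intro x _
  simp [Matrix.reindex_apply, Matrix.submatrix_apply, Equiv.prodComm_apply, Equiv.prodComm_symm]

theorem hf_swv (σ : F ≃+* F) (x y : Fin a × Fin b → F) : hf σ (swv x) (swv y) = hf σ x y := by
  simp only [hf, dotProduct, swv, cj]
  rw [← Equiv.sum_comp (Equiv.prodComm (Fin a) (Fin b))]
  apply Finset.sum_congr rfl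
  intro p _
  simp

end Cfsg.Agent.Lib.helper6.UTP
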